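import Cfsg.Agent.H212.LD.RowSuz
import Cfsg.Agent.H952.S8.Suz

/-!
# The Suzuki group has no irreducible character of degree 220 (helper686)

The block at 7 of the characters of degree `± 3` modulo 7 contains seven characters; 143, 780, 5940, 15795 belong to it,
and there are no two degrees completing `143, 220, 780, 5940, 15795`.
-/

set_option autoImplicit false

open Cfsg Subgroup

namespace Cfsg.Agent.H686.S8

open Cfsg.Agent.Characters.Core
open Cfsg.Agent.H653.Sieve
open Cfsg.Agent.H212.LD (exists_deg exists_block)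

universe u

/-- the residues modulo 11 -/
def r11 (d : ℕ) : Bool := Nat.beq (d % 11) 0 || Nat.beq (d % 11) 1 || Nat.beq (d % 11) 10

theorem r11_of {d : ℕ} (h : d % 11 = 0 ∨ d % 11 = 1 ∨ d % 11 = 10) : r11 d = true := by
  rcases h with h | h | h <;> rw [r11, h] <;> rfl

/-- the check of the pair of degrees -/
def fd (d : ℕ) : Bool :=
  !(r11 d) || (bif Nat.beq (d % 7) 3 then !(Nat.beq (448345497600 % (10998 + d)) 0) || !(r11 (10998 + d)) else
  bif Nat.beq (d % 7) 4 then !(Nat.beq (448345497600 % ((d - 10998) + (10998 - d))) 0) ||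
    !(r11 ((d - 10998) + (10998 - d))) else true)

theorem chk : allDiv (448345497600 * 448345497600 + 1) fd [(13, 1), (11, 1), (7, 1), (5, 2), (3, 7), (2, 13)] 1 =
    true := by decide +kernel

theorem fd_of_dvd {d : ℕ} (hd : d ∣ 448345497600) : fd d = true := by
  have h := allDiv_spec (L := [(13, 1), (11, 1), (7, 1), (5, 2), (3, 7), (2, 13)]) (by
    intro pa hpa
    simp only [List.mem_cons, List.not_mem_nil, or_false] at hpa
    rcases hpa with rfl | rfl | rfl | rfl | rfl | rfl <;> norm_num) chk d (by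
      have : facProd [(13, 1), (11, 1), (7, 1), (5, 2), (3, 7), (2, 13)] = 448345497600 := by decide +kernel
      rw [this]
      exact hd) (by
      rw [one_mul]
      have := Nat.le_of_dvd (by norm_num) hd
      have := Nat.mul_le_mul this this
      omega)
  rwa [one_mul] at h

theorem no_pair {a b : ℕ} {s t k : ℤ} (ha : a ∣ 448345497600) (hb : b ∣ 448345497600) (ra : r11 a = true)
    (rb : r11 b = true) (hs : s = 1 ∨ s = -1) (ht : t = 1 ∨ t = -1) (hk : (a : ℤ) = 3 * s + 7 * k)
    (h : s * a + t * b = -10998) : False := by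
  have h1 := fd_of_dvd ha
  have hb0 : 448345497600 % b = 0 := Nat.mod_eq_zero_of_dvd hb
  unfold fd at h1
  rw [ra] at h1
  rcases hs with rfl | rfl
  · have h2 : a % 7 = 3 := by omega
    have h3 : b = 10998 + a := by rcases ht with rfl | rfl <;> omega
    rw [h2, ← h3, hb0, rb] at h1
    exact Bool.false_ne_true h1
  · have h2 : a % 7 = 4 := by omega
    have h3 : b = (a - 10998) + (10998 - a) := by rcases ht with rfl | rfl <;> omega
    rw [h2, ← h3, hb0, rb] at h1
    exact Bool.false_ne_true h1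

variable {X : Type u} [Group X] [Finite X]

theorem no220_irr (h : Spor.IsoSuz X) (α' : IrrCharacter X) (hα' : charDegree (α' : X → ℂ) = 220) : False := by
  classical
  obtain ⟨e⟩ := id h
  have hcard : Nat.card X = 448345497600 := by
    rw [Nat.card_congr e.toEquiv, H812.SuzSeven.card_Suz]
  obtain ⟨α, hα⟩ : ∃ α : IrrCharacter X, charDegree (α : X → ℂ) = 143 := by
    obtain ⟨ψ, hψ, hψ1, -⟩ := H299.K4.SuzX.exists_143
    obtain ⟨e'⟩ := H299.K4.SuzX.isoX
    refine exists_deg e ⟨⟨ψ ∘ e'.symm.toMonoidHom, isIrr_comp e'.symm.toMonoidHom e'.symm.surjective hψ⟩, ?_⟩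
    unfold charDegree
    show Nat.floor (ψ (e'.symm 1)).re = _
    rw [map_one, hψ1]
    norm_num
  obtain ⟨B, δ, hBc, hδ, hB, hsum⟩ := exists_block h
  obtain ⟨c3, h3⟩ := exists_deg e H289.Eight.SuzDeg.deg_780
  obtain ⟨c4, h4⟩ := exists_deg e H289.Eight.SuzDeg.deg_5940
  obtain ⟨c5, h5⟩ := exists_deg e H289.Eight.SuzDeg.deg_15795
  have hd : ∀ {c c' : IrrCharacter X} {a b : ℕ}, charDegree (c : X → ℂ) = a → charDegree (c' : X → ℂ) = b → a ≠ b →
      c ≠ c' := by
    rintro c c' a b rfl rfl hab rfl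
    exact hab rfl
  have mα := hB α (by rw [hα]; norm_num)
  have mα' := hB α' (by rw [hα']; norm_num)
  have m3 := hB c3 (by rw [h3]; norm_num)
  have m4 := hB c4 (by rw [h4]; norm_num)
  have m5 := hB c5 (by rw [h5]; norm_num)
  have n12 := hd hα hα' (by norm_num)
  have n13 := hd hα h3 (by norm_num)
  have n14 := hd hα h4 (by norm_num)
  have n15 := hd hα h5 (by norm_num)
  have n23 := hd hα' h3 (by norm_num)
  have n24 := hd hα' h4 (by norm_num)
  have n25 := hd hα' h5 (by norm_num)
  have n34 := hd h3 h4 (by norm_num)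
  have n35 := hd h3 h5 (by norm_num)
  have n45 := hd h4 h5 (by norm_num)
  -- the other two
  let T : Finset (IrrCharacter X) := {α, α', c3, c4, c5}
  have hT : T ⊆ B := by
    intro χ hχ
    simp only [T, Finset.mem_insert, Finset.mem_singleton] at hχ
    rcases hχ with rfl | rfl | rfl | rfl | rfl <;> assumption
  have hTc : T.card = 5 := by
    simp only [T]
    rw [Finset.card_insert_of_notMem (by simp [n12, n13, n14, n15]), Finset.card_insert_of_notMem
      (by simp [n23, n24, n25]), Finset.card_insert_of_notMem (by simp [n34, n35]), Finset.card_insert_of_notMem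
      (by simp [n45]), Finset.card_singleton]
  have hTs : ∑ χ ∈ T, δ χ * (charDegree (χ : X → ℂ) : ℤ) = δ α * 143 + (δ α' * 220 + (δ c3 * 780 + (δ c4 * 5940 +
      δ c5 * 15795))) := by
    simp only [T]
    rw [Finset.sum_insert (by simp [n12, n13, n14, n15]), Finset.sum_insert
      (by simp [n23, n24, n25]), Finset.sum_insert (by simp [n34, n35]), Finset.sum_insert
      (by simp [n45]), Finset.sum_singleton, hα, hα', h3, h4, h5]
    norm_num
  have hsd : (B \ T).card = 2 := by
    rw [Finset.card_sdiff_of_subset hT, hBc, hTc]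
  obtain ⟨a, b, hab, hABs⟩ := Finset.card_eq_two.1 hsd
  have hsplit := Finset.sum_sdiff hT (f := fun χ : IrrCharacter X => δ χ * (charDegree (χ : X → ℂ) : ℤ))
  rw [hsum, hTs, hABs, Finset.sum_pair hab] at hsplit
  have ma : a ∈ B := (Finset.mem_sdiff.1 (by rw [hABs]; simp : a ∈ B \ T)).1
  have mb : b ∈ B := (Finset.mem_sdiff.1 (by rw [hABs]; simp : b ∈ B \ T)).1
  obtain ⟨sα, kα, eα⟩ := hδ α mα
  obtain ⟨sα', kα', eα'⟩ := hδ α' mα'
  obtain ⟨s3, k3, e3⟩ := hδ c3 m3
  obtain ⟨s4, k4, e4⟩ := hδ c4 m4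
  obtain ⟨s5, k5, e5⟩ := hδ c5 m5
  obtain ⟨sa, ka, ea⟩ := hδ a ma
  obtain ⟨sb, kb, eb⟩ := hδ b mb
  rw [hα] at eα
  rw [hα'] at eα'
  rw [h3] at e3
  rw [h4] at e4
  rw [h5] at e5
  have t1 : δ α = 1 := by rcases sα with h | h <;> rw [h] at eα <;> push_cast at eα <;> omega
  have t2 : δ α' = 1 := by rcases sα' with h | h <;> rw [h] at eα' <;> push_cast at eα' <;> omega
  have t3 : δ c3 = 1 := by rcases s3 with h | h <;> rw [h] at e3 <;> push_cast at e3 <;> omega
  have t4 : δ c4 = -1 := by rcases s4 with h | h <;> rw [h] at e4 <;> push_cast at e4 <;> omega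
  have t5 : δ c5 = 1 := by rcases s5 with h | h <;> rw [h] at e5 <;> push_cast at e5 <;> omega
  rw [t1, t2, t3, t4, t5] at hsplit
  have hdvd : ∀ χ : IrrCharacter X, charDegree (χ : X → ℂ) ∣ 448345497600 := fun χ => by
    rw [← hcard]
    exact Blocks.Knorr.charDegree_dvd χ.2
  have hr : ∀ χ : IrrCharacter X, r11 (charDegree (χ : X → ℂ)) = true := fun χ =>
    r11_of (H952.S8.Suz.degX h (d := charDegree (χ : X → ℂ)) ⟨χ, rfl⟩).2.2.2
  exact no_pair (hdvd a) (hdvd b) (hr a) (hr b) sa sb ea (by linarith)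

/-- The Suzuki group has no irreducible character of degree 220. -/
theorem no220 (hX : Spor.IsoSuz X) : ¬ ∃ ψ : X → ℂ, IsIrrCharacter X ψ ∧ ψ 1 = 220 := by
  rintro ⟨ψ, hψ, h1⟩
  refine no220_irr hX ⟨ψ, hψ⟩ ?_
  show charDegree ψ = 220
  unfold charDegree
  rw [h1]
  norm_num

end Cfsg.Agent.H686.S8
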